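import Mathlib
import Cfsg.Agent.HxS.Alg
import Cfsg.Agent.Inv.FzBasic

/-! Groups whose Sylow 2-subgroup is the unipotent group of a hexagonal system: definitions and arithmetic. -/

set_option autoImplicit false
set_option linter.unusedSectionVars false

namespace Cfsg.Agent.HxS

open Cfsg.Agent.Hex Cfsg.Agent.Inv.Fz Subgroup

universe u

/-- A Sylow 2-subgroup with coordinates: `el a (u, b, c, v) w = x₁(a) x₆(u) x₅(b) x₃(c) x₂(v) x₄(w)`. -/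
structure St (G : Type u) [Group G] (k J : Type) [Field k] [AddCommGroup J] [Module k J] where
  S : HS k J
  el : J → V k J → k → G
  mul : ∀ a x w a' x' w', el a x w * el a' x' w' =
    el (a + a') (sg S a' x + x') (w + w' + ga S a' x + be S (sg S a' x) x')
  inj : ∀ {a x w a' x' w'}, el a x w = el a' x' w' → a = a' ∧ x = x' ∧ w = w'
  T : Subgroup G
  mem_T : ∀ {g}, g ∈ T ↔ ∃ a x w, g = el a x w
  syl : IsSylIn 2 T ⊤
  dim : Spl S → 4 ≤ Nat.card k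

theorem card_split {G A : Type*} [Group G] [AddCommGroup A] {X Y : Subgroup G} {P : AddSubgroup A} (f : G → A)
    (hf : ∀ x ∈ X, ∀ y ∈ X, f (x * y) = f x + f y) (hP : ∀ a, a ∈ P ↔ ∃ x ∈ X, f x = a)
    (hY : ∀ x, x ∈ Y ↔ x ∈ X ∧ f x = 0) : Nat.card X = Nat.card P * Nat.card Y := by
  let φ : X →* Multiplicative A := MonoidHom.mk' (fun x => Multiplicative.ofAdd (f x)) fun x y => by
    rw [coe_mul, hf _ x.2 _ y.2, ofAdd_add]
  have h1 := φ.ker.card_mul_index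
  have h2 : φ.ker = Y.subgroupOf X := Subgroup.ext fun x => by
    rw [mem_subgroupOf, hY, and_iff_right x.2]; rfl
  rw [index_ker, h2, Nat.card_congr (subgroupOfEquivOfLe fun x hx => ((hY x).1 hx).1).toEquiv] at h1
  rw [← h1, mul_comm]
  congr 1
  refine Nat.card_congr (Equiv.subtypeEquiv Multiplicative.toAdd fun a => ?_)
  rw [hP]
  exact ⟨fun ⟨x, e⟩ => ⟨x, x.2, congrArg Multiplicative.toAdd e⟩, fun ⟨x, h, e⟩ =>
    ⟨⟨x, h⟩, congrArg Multiplicative.ofAdd e⟩⟩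

variable {G : Type u} [Group G] {k J : Type} [Field k] [AddCommGroup J] [Module k J]

/-- the line through `e0` -/
def LW (k J : Type) [Field k] [AddCommGroup J] : AddSubgroup (V k J) where
  carrier := {x | x.1 = 0 ∧ x.2.1 = 0 ∧ x.2.2.1 = 0}
  zero_mem' := ⟨rfl, rfl, rfl⟩
  add_mem' h h' := by simp [h.1, h.2.1, h.2.2, h'.1, h'.2.1, h'.2.2]
  neg_mem' h := by simp [h.1, h.2.1, h.2.2]

/-- the standard maximal singular subspace -/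
def LA (k J : Type) [Field k] [AddCommGroup J] : AddSubgroup (V k J) where
  carrier := {x | x.1 = 0 ∧ x.2.1 = 0}
  zero_mem' := ⟨rfl, rfl⟩
  add_mem' h h' := by simp [h.1, h.2, h'.1, h'.2]
  neg_mem' h := by simp [h.1, h.2]

/-- the hyperplane orthogonal to `e0` -/
def L0 (k J : Type) [Field k] [AddCommGroup J] : AddSubgroup (V k J) where
  carrier := {x | x.1 = 0}
  zero_mem' := rfl
  add_mem' h h' := by simp [show _ = _ from h, show _ = _ from h']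
  neg_mem' h := by simp [show _ = _ from h]

theorem mem_LW {x : V k J} : x ∈ LW k J ↔ x.1 = 0 ∧ x.2.1 = 0 ∧ x.2.2.1 = 0 := Iff.rfl

theorem mem_LA {x : V k J} : x ∈ LA k J ↔ x.1 = 0 ∧ x.2.1 = 0 := Iff.rfl

theorem mem_L0 {x : V k J} : x ∈ L0 k J ↔ x.1 = 0 := Iff.rfl

theorem mem_LW' {x : V k J} : x ∈ LW k J ↔ ∃ t : k, x = t • e0 := by
  obtain ⟨u, b, c, v⟩ := x
  simp [mem_LW, smul_e0]

theorem smul_e0_mem (t : k) : t • e0 ∈ LW k J := mem_LW'.2 ⟨t, rfl⟩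

theorem card_LW : Nat.card (LW k J) = Nat.card k :=
  (Nat.card_congr (Equiv.ofBijective (fun t : k => (⟨_, smul_e0_mem t⟩ : LW k J))
    ⟨fun _ _ e => smul_left_injective k e0_ne (Subtype.mk.inj e), fun x =>
      (mem_LW'.1 x.2).imp fun _ e => Subtype.ext e.symm⟩)).symm

theorem card_L0 : Nat.card (L0 k J) = Nat.card k * Nat.card J ^ 2 := by
  rw [← Nat.card_congr (Equiv.ofBijective (fun t : J × J × k => (⟨(0, t), rfl⟩ : L0 k J))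
    ⟨fun _ _ e => (Prod.mk.inj (Subtype.mk.inj e)).2, fun x => ⟨x.1.2, Subtype.ext (Prod.ext x.2.symm rfl)⟩⟩)]
  simp only [Nat.card_prod]; ring

theorem card_LA : Nat.card (LA k J) = Nat.card k * Nat.card J := by
  rw [← Nat.card_congr (Equiv.ofBijective (fun t : J × k => (⟨(0, 0, t), rfl, rfl⟩ : LA k J))
    ⟨fun _ _ e => (Prod.mk.inj (Prod.mk.inj (Subtype.mk.inj e)).2).2, fun x =>
      ⟨x.1.2.2, Subtype.ext (Prod.ext x.2.1.symm (Prod.ext x.2.2.symm rfl))⟩⟩)]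
  simp only [Nat.card_prod]; ring

namespace St

variable (s : St G k J)

theorem el_inj {a x w a' x' w'} : s.el a x w = s.el a' x' w' ↔ a = a' ∧ x = x' ∧ w = w' :=
  ⟨s.inj, fun h => by rw [h.1, h.2.1, h.2.2]⟩

theorem mulQ (a x w y w') : s.el a x w * s.el 0 y w' = s.el a (x + y) (w + w' + be s.S x y) := by
  rw [s.mul, add_zero, sg_zero, ga_zero, add_zero]

theorem el_one : s.el 0 0 0 = 1 := by
  have := s.mulQ 0 0 0 0 0
  simpa using this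

theorem el_eq_one {a x w} : s.el a x w = 1 ↔ a = 0 ∧ x = 0 ∧ w = 0 := by rw [← s.el_one, el_inj]

theorem el_mem (a x w) : s.el a x w ∈ s.T := s.mem_T.2 ⟨a, x, w, rfl⟩

theorem x1_mul (a a' x w) : s.el a 0 0 * s.el a' x w = s.el (a + a') x w := by
  simp [s.mul, ga_zero']

theorem mul_z (a x w w') : s.el a x w * s.el 0 0 w' = s.el a x (w + w') := by simp [mulQ]

theorem z_mul (a x w w') : s.el 0 0 w' * s.el a x w = s.el a x (w + w') := by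
  simp [s.mul, ga_zero', add_comm]

/-- the conjugate frame -/
def conj (g : G) : St G k J where
  S := s.S
  el a x w := g * s.el a x w * g⁻¹
  mul a x w a' x' w' := by rw [conj_mul, s.mul]
  inj h := s.inj (by simpa using h)
  T := cj g s.T
  mem_T := by
    intro y
    simp only [mem_cj, s.mem_T]
    exact exists₃_congr fun a x w => ⟨fun e => by rw [← e]; group, fun e => by rw [e]; group⟩
  syl := by simpa only [cj_eq_of_normal] using s.syl.cj g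
  dim := s.dim

theorem conj_el (g : G) (a x w) : (s.conj g).el a x w = g * s.el a x w * g⁻¹ := rfl

theorem conj_T (g : G) : (s.conj g).T = cj g s.T := rfl

theorem conj_S (g : G) : (s.conj g).S = s.S := rfl

theorem pg : IsPGroup 2 s.T := s.syl.isPGroup

/-- `T` is a Sylow subgroup of every overgroup -/
theorem sylIn {H : Subgroup G} (h : s.T ≤ H) : IsSylIn 2 s.T H := s.syl.mono h le_top

/-- the coordinates of an element of `T` -/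
noncomputable def co (g : G) : J × V k J × k := Function.invFun (fun p : J × V k J × k => s.el p.1 p.2.1 p.2.2) g

theorem co_el (a x w) : s.co (s.el a x w) = (a, x, w) :=
  Function.leftInverse_invFun (f := fun p : J × V k J × k => s.el p.1 p.2.1 p.2.2)
    (fun _ _ e => Prod.ext (s.inj e).1 (Prod.ext (s.inj e).2.1 (s.inj e).2.2)) (a, x, w)

variable [CharP k 2]

theorem sqQ (x w) : s.el 0 x w * s.el 0 x w = s.el 0 0 (qf s.S x) := by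
  rw [mulQ, vtwo, CharTwo.add_self_eq_zero, zero_add, qf]

theorem invQ (x w) : (s.el 0 x w)⁻¹ = s.el 0 x (w + qf s.S x) :=
  inv_eq_of_mul_eq_one_right (by
    rw [mulQ, vtwo, ← add_assoc, CharTwo.add_self_eq_zero, zero_add, qf, CharTwo.add_self_eq_zero, el_one])

theorem x1_sq (a) : s.el a 0 0 * s.el a 0 0 = 1 := by rw [x1_mul, jtwo s.S, el_one]

theorem x1_inv (a) : (s.el a 0 0)⁻¹ = s.el a 0 0 := inv_eq_of_mul_eq_one_right (s.x1_sq a)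

theorem el_split (a x w) : s.el a x w = s.el a 0 0 * s.el 0 x w := by rw [x1_mul, add_zero]

theorem inv_el (a x w) : ∃ w', (s.el a x w)⁻¹ = s.el a (sg s.S a x) w' := by
  rw [el_split, mul_inv_rev, invQ, x1_inv, s.mul, zero_add, add_zero]
  exact ⟨_, rfl⟩

theorem sq_el (a x w) : s.el a x w * s.el a x w =
    s.el 0 (sg s.S a x + x) (ga s.S a x + be s.S (sg s.S a x) x) := by
  rw [s.mul, jtwo s.S, CharTwo.add_self_eq_zero, zero_add]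

/-- conjugation of an element of `Q` by an element of `T` -/
theorem conjQ (a y v x w) : s.el a y v * s.el 0 x w * (s.el a y v)⁻¹ =
    s.el 0 (sg s.S a x) (w + ga s.S a x + bf s.S x y) := by
  rw [el_split s a y, mul_inv_rev, x1_inv, invQ, ← mul_assoc, mul_assoc (s.el a 0 0), mul_assoc (s.el a 0 0), mulQ,
    mulQ, x1_mul, s.mul, add_right_comm y, vtwo, el_inj]
  simp only [add_zero, zero_add, jtwo s.S, map_zero, true_and, map_add, LinearMap.add_apply, qf, bf_def]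
  linear_combination (v + be s.S y y) * CharTwo.two_eq_zero (R := k)

theorem commQ {a y v x w} : s.el a y v * s.el 0 x w = s.el 0 x w * s.el a y v ↔
    sg s.S a x = x ∧ ga s.S a x = bf s.S x y := by
  rw [← mul_inv_eq_iff_eq_mul, conjQ, el_inj, add_assoc, add_eq_left, CharTwo.add_eq_zero, and_iff_right rfl]

theorem commQQ {y v x w} : s.el 0 y v * s.el 0 x w = s.el 0 x w * s.el 0 y v ↔ bf s.S x y = 0 := by
  rw [commQ, sg_zero, ga_zero, and_iff_right rfl, eq_comm]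

/-- the commutator of an element of `T` with an element of `Q` -/
theorem cmt (a y v x w) : ∃ w', s.el a y v * s.el 0 x w * (s.el a y v)⁻¹ * (s.el 0 x w)⁻¹ =
    s.el 0 (sg s.S a x + x) w' := by
  rw [conjQ, invQ, mulQ]
  exact ⟨_, rfl⟩

theorem cmtQ (y v x w) : s.el 0 y v * s.el 0 x w * (s.el 0 y v)⁻¹ * (s.el 0 x w)⁻¹ = s.el 0 0 (bf s.S x y) := by
  rw [conjQ, invQ, mulQ, sg_zero, ga_zero, vtwo, el_inj, qf]
  refine ⟨rfl, rfl, ?_⟩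
  linear_combination (w + be s.S x x) * CharTwo.two_eq_zero (R := k)

/-- the preimage in `Q` of a subgroup of `V` -/
def sub (X : AddSubgroup (V k J)) : Subgroup G where
  carrier := {g | ∃ x ∈ X, ∃ w, g = s.el 0 x w}
  one_mem' := ⟨0, zero_mem _, 0, s.el_one.symm⟩
  mul_mem' := by
    rintro _ _ ⟨x, hx, w, rfl⟩ ⟨y, hy, w', rfl⟩
    exact ⟨_, add_mem hx hy, _, s.mulQ ..⟩
  inv_mem' := by
    rintro _ ⟨x, hx, w, rfl⟩
    exact ⟨_, hx, _, s.invQ ..⟩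

/-- `U₂ ⋯ U₆` -/
def Q : Subgroup G := s.sub ⊤

/-- `U₄`, the centre -/
def Z : Subgroup G := s.sub ⊥

/-- `U₂ U₄` -/
def W : Subgroup G := s.sub (LW k J)

/-- `U₂ U₃ U₄` -/
def A1 : Subgroup G := s.sub (LA k J)

/-- `U₂ ⋯ U₅` -/
def Q0 : Subgroup G := s.sub (L0 k J)

/-- `U₁ ⋯ U₅` -/
def R : Subgroup G where
  carrier := {g | ∃ a x w, x.1 = 0 ∧ g = s.el a x w}
  one_mem' := ⟨0, 0, 0, rfl, s.el_one.symm⟩
  mul_mem' := by
    rintro _ _ ⟨a, x, w, hx, rfl⟩ ⟨b, y, w', hy, rfl⟩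
    exact ⟨_, _, _, show x.1 + y.1 = 0 by rw [hx, hy, add_zero], s.mul ..⟩
  inv_mem' := by
    rintro _ ⟨a, x, w, hx, rfl⟩
    obtain ⟨w', e⟩ := s.inv_el a x w
    exact ⟨a, sg s.S a x, w', hx, e⟩

/-- the conjugates of the central involutions -/
def D : Set G := {d | ∃ z ∈ s.Z, z ≠ 1 ∧ IsConj z d}

/-- the group acting on `V = Q / Z` -/
def K : Subgroup G := normalizer (s.Q : Set G) ⊓ centralizer (s.Z : Set G)

/-- the core of `Q0` in `N(R)` -/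
def A : Subgroup G := ⨅ l ∈ normalizer (s.R : Set G), cj l s.Q0

theorem mem_sub {X : AddSubgroup (V k J)} {g : G} : g ∈ s.sub X ↔ ∃ x ∈ X, ∃ w, g = s.el 0 x w := Iff.rfl

theorem el_mem_sub {X : AddSubgroup (V k J)} {a x w} : s.el a x w ∈ s.sub X ↔ a = 0 ∧ x ∈ X :=
  ⟨fun ⟨_, h, _, e⟩ => ⟨(s.inj e).1, (s.inj e).2.1 ▸ h⟩, fun h => ⟨x, h.2, w, h.1 ▸ rfl⟩⟩

theorem mem_Q {g : G} : g ∈ s.Q ↔ ∃ x w, g = s.el 0 x w := by simp [Q, mem_sub]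

theorem mem_Z {g : G} : g ∈ s.Z ↔ ∃ w, g = s.el 0 0 w := by simp [Z, mem_sub]

theorem mem_W {g : G} : g ∈ s.W ↔ ∃ (t : k) (w : k), g = s.el 0 (t • e0) w :=
  ⟨fun ⟨_, h, w, e⟩ => (mem_LW'.1 h).elim fun t e' => ⟨t, w, e' ▸ e⟩, fun ⟨t, w, e⟩ => ⟨_, smul_e0_mem t, w, e⟩⟩

theorem mem_R {g : G} : g ∈ s.R ↔ ∃ a x w, x.1 = 0 ∧ g = s.el a x w := Iff.rfl

theorem el_mem_Q {a x w} : s.el a x w ∈ s.Q ↔ a = 0 := by simp [Q, el_mem_sub]

theorem el_mem_Z {a x w} : s.el a x w ∈ s.Z ↔ a = 0 ∧ x = 0 := by simp [Z, el_mem_sub]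

theorem el_mem_W {a x w} : s.el a x w ∈ s.W ↔ a = 0 ∧ x ∈ LW k J := s.el_mem_sub

theorem el_mem_A1 {a x w} : s.el a x w ∈ s.A1 ↔ a = 0 ∧ x.1 = 0 ∧ x.2.1 = 0 := s.el_mem_sub

theorem el_mem_Q0 {a x w} : s.el a x w ∈ s.Q0 ↔ a = 0 ∧ x.1 = 0 := s.el_mem_sub

theorem el_mem_R {a x w} : s.el a x w ∈ s.R ↔ x.1 = 0 :=
  ⟨fun ⟨_, _, _, h, e⟩ => (s.inj e).2.1 ▸ h, fun h => ⟨a, x, w, h, rfl⟩⟩

theorem sub_mono {X Y : AddSubgroup (V k J)} (h : X ≤ Y) : s.sub X ≤ s.sub Y :=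
  fun _ ⟨x, hx, e⟩ => ⟨x, h hx, e⟩

theorem sub_le_T (X : AddSubgroup (V k J)) : s.sub X ≤ s.T := fun _ ⟨_, _, _, e⟩ => e ▸ s.el_mem ..

theorem sub_le_Q (X : AddSubgroup (V k J)) : s.sub X ≤ s.Q := s.sub_mono le_top

theorem Z_le_sub (X : AddSubgroup (V k J)) : s.Z ≤ s.sub X := s.sub_mono bot_le

theorem Q_le : s.Q ≤ s.T := s.sub_le_T _
theorem Z_le : s.Z ≤ s.T := s.sub_le_T _
theorem W_le : s.W ≤ s.T := s.sub_le_T _
theorem Q0_le : s.Q0 ≤ s.T := s.sub_le_T _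
theorem R_le : s.R ≤ s.T := fun _ ⟨_, _, _, _, e⟩ => e ▸ s.el_mem ..
theorem Z_le_W : s.Z ≤ s.W := s.Z_le_sub _
theorem Z_le_Q : s.Z ≤ s.Q := s.Z_le_sub _
theorem W_le_Q : s.W ≤ s.Q := s.sub_le_Q _
theorem W_le_A1 : s.W ≤ s.A1 := s.sub_mono fun _ h => ⟨h.1, h.2.1⟩
theorem A1_le_Q0 : s.A1 ≤ s.Q0 := s.sub_mono fun _ h => h.1
theorem W_le_Q0 : s.W ≤ s.Q0 := s.W_le_A1.trans s.A1_le_Q0
theorem Q0_le_Q : s.Q0 ≤ s.Q := s.sub_le_Q _
theorem Q0_le_R : s.Q0 ≤ s.R := fun _ ⟨x, h, w, e⟩ => ⟨0, x, w, h, e⟩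
theorem W_le_R : s.W ≤ s.R := s.W_le_Q0.trans s.Q0_le_R

theorem mem_Q0 {g : G} : g ∈ s.Q0 ↔ g ∈ s.Q ∧ g ∈ s.R :=
  ⟨fun h => ⟨s.Q0_le_Q h, s.Q0_le_R h⟩, fun ⟨h, h'⟩ => by
    obtain ⟨x, w, rfl⟩ := s.mem_Q.1 h
    exact s.el_mem_Q0.2 ⟨rfl, s.el_mem_R.1 h'⟩⟩

theorem conj_sub (g : G) (X : AddSubgroup (V k J)) : (s.conj g).sub X = cj g (s.sub X) := by
  ext y
  simp only [mem_cj, mem_sub, conj_el]
  exact exists_congr fun x => and_congr_right' (exists_congr fun w =>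
    ⟨fun e => by rw [e]; group, fun e => by rw [← e]; group⟩)

theorem conj_Q (g : G) : (s.conj g).Q = cj g s.Q := s.conj_sub g _
theorem conj_Z (g : G) : (s.conj g).Z = cj g s.Z := s.conj_sub g _
theorem conj_W (g : G) : (s.conj g).W = cj g s.W := s.conj_sub g _
theorem conj_A1 (g : G) : (s.conj g).A1 = cj g s.A1 := s.conj_sub g _
theorem conj_Q0 (g : G) : (s.conj g).Q0 = cj g s.Q0 := s.conj_sub g _

theorem conj_R (g : G) : (s.conj g).R = cj g s.R := by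
  ext y
  simp only [mem_cj, mem_R, conj_el]
  exact exists₃_congr fun a x w => and_congr_right' ⟨fun e => by rw [e]; group, fun e => by rw [← e]; group⟩

theorem D_conj {d : G} (h : d ∈ s.D) (g : G) : g * d * g⁻¹ ∈ s.D :=
  h.imp fun _ h => ⟨h.1, h.2.1, h.2.2.trans (isConj_iff.2 ⟨g, rfl⟩)⟩

theorem D_conj_iff {d g : G} : g * d * g⁻¹ ∈ s.D ↔ d ∈ s.D :=
  ⟨fun h => by simpa [mul_assoc] using s.D_conj h g⁻¹, fun h => s.D_conj h g⟩

theorem mem_D_of_Z {z : G} (h : z ∈ s.Z) (h1 : z ≠ 1) : z ∈ s.D := ⟨z, h, h1, IsConj.refl z⟩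

theorem conj_D (g : G) : (s.conj g).D = s.D := by
  ext d
  simp only [D, conj_Z, Set.mem_ofPred_eq]
  exact ⟨fun ⟨z, h, h1, h2⟩ => ⟨_, mem_cj.1 h, by simpa [mul_assoc] using (conj_eq_one_iff (a := g⁻¹)).not.2 h1,
    (isConj_iff.2 ⟨g, by group⟩).trans h2⟩, fun ⟨z, h, h1, h2⟩ =>
    ⟨_, conj_mem_cj.2 h, conj_eq_one_iff.not.2 h1, (isConj_iff.2 ⟨g⁻¹, by group⟩).trans h2⟩⟩

theorem Z_comm {z t : G} (hz : z ∈ s.Z) (ht : t ∈ s.T) : t * z = z * t := by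
  obtain ⟨w, rfl⟩ := s.mem_Z.1 hz
  obtain ⟨a, x, w', rfl⟩ := s.mem_T.1 ht
  rw [mul_z, z_mul]

theorem T_le_CZ : s.T ≤ centralizer (s.Z : Set G) := fun _ ht _ hz => (s.Z_comm hz ht).symm

theorem W_comm {w r : G} (hw : w ∈ s.W) (hr : r ∈ s.R) : r * w = w * r := by
  obtain ⟨t, w, rfl⟩ := s.mem_W.1 hw
  obtain ⟨a, x, w', hx, rfl⟩ := hr
  rw [commQ, map_smul, sg_e0, map_smul, LinearMap.smul_apply, bf_symm, bf_e0, hx, smul_e0]
  simp [ga_mk, s.S.fd_sh_zero]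

theorem W_sq {w : G} (hw : w ∈ s.W) : w * w = 1 := by
  obtain ⟨t, w, rfl⟩ := s.mem_W.1 hw
  rw [sqQ, qf_smul, qf_e0, mul_zero, el_one]

theorem D_sq {d : G} (h : d ∈ s.D) : d * d = 1 := by
  obtain ⟨z, hz, -, h⟩ := h
  obtain ⟨g, rfl⟩ := isConj_iff.1 h
  rw [conj_mul, s.W_sq (s.Z_le_W hz), mul_one, mul_inv_cancel]

theorem D_ne {d : G} (h : d ∈ s.D) : d ≠ 1 := by
  obtain ⟨z, -, hz, h⟩ := h
  rintro rfl
  exact hz (isConj_one_left.1 h)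

theorem Q_sq {x : G} (hx : x ∈ s.Q) : x * x ∈ s.Z := by
  obtain ⟨x, w, rfl⟩ := s.mem_Q.1 hx
  rw [sqQ, el_mem_Z]; exact ⟨rfl, rfl⟩

theorem Q_cmt {x y : G} (hx : x ∈ s.Q) (hy : y ∈ s.Q) : x * y * x⁻¹ * y⁻¹ ∈ s.Z := by
  obtain ⟨x, w, rfl⟩ := s.mem_Q.1 hx
  obtain ⟨y, w, rfl⟩ := s.mem_Q.1 hy
  rw [cmtQ, el_mem_Z]; exact ⟨rfl, rfl⟩

theorem T_sq {x : G} (hx : x ∈ s.T) : x * x ∈ s.Q := by
  obtain ⟨a, x, w, rfl⟩ := s.mem_T.1 hx
  rw [sq_el, el_mem_Q]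

theorem T_cmt {x y : G} (hx : x ∈ s.T) (hy : y ∈ s.T) : x * y * x⁻¹ * y⁻¹ ∈ s.Q := by
  obtain ⟨a, x, w, rfl⟩ := s.mem_T.1 hx
  obtain ⟨b, y, w', rfl⟩ := s.mem_T.1 hy
  obtain ⟨_, e⟩ := s.inv_el a x w
  obtain ⟨_, e'⟩ := s.inv_el b y w'
  rw [e, e', s.mul, s.mul, s.mul, el_mem_Q, add_right_comm a b, jtwo s.S, zero_add, jtwo s.S]

theorem W_cmt {t w : G} (ht : t ∈ s.T) (hw : w ∈ s.W) : t * w * t⁻¹ * w⁻¹ ∈ s.Z := by
  obtain ⟨a, x, v, rfl⟩ := s.mem_T.1 ht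
  obtain ⟨t, w, rfl⟩ := s.mem_W.1 hw
  obtain ⟨_, e⟩ := s.cmt a x v (t • e0) w
  rw [e, map_smul, sg_e0, vtwo, el_mem_Z]; exact ⟨rfl, rfl⟩

/-- the projection of a subgroup of `T` to `T / Q` -/
def pJ (X : Subgroup G) : AddSubgroup J where
  carrier := {a | ∃ x w, s.el a x w ∈ X}
  zero_mem' := ⟨0, 0, s.el_one ▸ one_mem X⟩
  add_mem' := fun ⟨_, _, h⟩ ⟨_, _, h'⟩ => ⟨_, _, s.mul .. ▸ mul_mem h h'⟩
  neg_mem' := fun {a} h => by rwa [neg_eq_of_add_eq_zero_left (jtwo s.S a)]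

/-- the projection of `X ⊓ Q` to `Q / Z` -/
def pV (X : Subgroup G) : AddSubgroup (V k J) where
  carrier := {x | ∃ w, s.el 0 x w ∈ X}
  zero_mem' := ⟨0, s.el_one ▸ one_mem X⟩
  add_mem' := fun ⟨_, h⟩ ⟨_, h'⟩ => ⟨_, s.mulQ .. ▸ mul_mem h h'⟩
  neg_mem' := fun {a} h => by rwa [neg_eq_of_add_eq_zero_left (vtwo a)]

/-- `X ⊓ Z` as a subgroup of `k` -/
def pZ (X : Subgroup G) : AddSubgroup k where
  carrier := {w | s.el 0 0 w ∈ X}
  zero_mem' := show s.el 0 0 0 ∈ X from s.el_one ▸ one_mem X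
  add_mem' := fun h h' => show s.el 0 0 _ ∈ X from s.mul_z .. ▸ mul_mem h h'
  neg_mem' := fun {a} h => by rwa [CharTwo.neg_eq]

theorem mem_pJ {X : Subgroup G} {a : J} : a ∈ s.pJ X ↔ ∃ x w, s.el a x w ∈ X := Iff.rfl

theorem mem_pV {X : Subgroup G} {x : V k J} : x ∈ s.pV X ↔ ∃ w, s.el 0 x w ∈ X := Iff.rfl

theorem mem_pZ {X : Subgroup G} {w : k} : w ∈ s.pZ X ↔ s.el 0 0 w ∈ X := Iff.rfl

theorem card_eq {X : Subgroup G} (h : X ≤ s.T) :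
    Nat.card X = Nat.card (s.pJ X) * (Nat.card (s.pV X) * Nat.card (s.pZ X)) := by
  rw [card_split (X := X) (Y := X ⊓ s.Q) (P := s.pJ X) (fun g => (s.co g).1),
    card_split (X := X ⊓ s.Q) (Y := X ⊓ s.Z) (P := s.pV X) (fun g => (s.co g).2.1),
    card_split (X := X ⊓ s.Z) (Y := ⊥) (P := s.pZ X) (fun g => (s.co g).2.2), Subgroup.card_bot, mul_one]
  · intro x hx y hy
    obtain ⟨w, rfl⟩ := s.mem_Z.1 hx.2
    obtain ⟨w', rfl⟩ := s.mem_Z.1 hy.2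
    simp only [mul_z, co_el]
  · refine fun w => ⟨fun h => ⟨_, ⟨h, s.el_mem_Z.2 ⟨rfl, rfl⟩⟩, by rw [co_el]⟩, fun ⟨x, hx, e⟩ => ?_⟩
    obtain ⟨w, rfl⟩ := s.mem_Z.1 hx.2
    exact e ▸ s.co_el .. ▸ hx.1
  · refine fun x => ⟨fun e => mem_bot.1 e ▸ ⟨one_mem _, by rw [← s.el_one, co_el]⟩, fun ⟨hx, e⟩ => ?_⟩
    obtain ⟨w, rfl⟩ := s.mem_Z.1 hx.2
    rw [co_el] at e
    exact s.el_eq_one.2 ⟨rfl, rfl, e⟩
  · intro x hx y hy
    obtain ⟨x, w, rfl⟩ := s.mem_Q.1 hx.2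
    obtain ⟨y, w', rfl⟩ := s.mem_Q.1 hy.2
    simp only [mulQ, co_el]
  · refine fun x => ⟨fun ⟨w, h⟩ => ⟨_, ⟨h, s.el_mem_Q.2 rfl⟩, by rw [co_el]⟩, fun ⟨x, hx, e⟩ => ?_⟩
    obtain ⟨x, w, rfl⟩ := s.mem_Q.1 hx.2
    exact e ▸ s.co_el .. ▸ ⟨w, hx.1⟩
  · refine fun x => ⟨fun hx => ⟨⟨hx.1, s.Z_le_Q hx.2⟩, ?_⟩, fun ⟨hx, e⟩ => ⟨hx.1, ?_⟩⟩
    · obtain ⟨w, rfl⟩ := s.mem_Z.1 hx.2
      rw [co_el]
    · obtain ⟨x, w, rfl⟩ := s.mem_Q.1 hx.2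
      exact s.el_mem_Z.2 ⟨rfl, by rwa [co_el] at e⟩
  · intro x hx y hy
    obtain ⟨a, x, w, rfl⟩ := s.mem_T.1 (h hx)
    obtain ⟨b, y, w', rfl⟩ := s.mem_T.1 (h hy)
    simp only [s.mul, co_el]
  · refine fun a => ⟨fun ⟨x, w, h⟩ => ⟨_, h, by rw [co_el]⟩, fun ⟨x, hx, e⟩ => ?_⟩
    obtain ⟨a, x, w, rfl⟩ := s.mem_T.1 (h hx)
    exact e ▸ s.co_el .. ▸ ⟨x, w, hx⟩
  · refine fun x => and_congr_right fun hx => ?_
    obtain ⟨a, x, w, rfl⟩ := s.mem_T.1 (h hx)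
    rw [co_el]; exact s.el_mem_Q

theorem card_sub (X : AddSubgroup (V k J)) : Nat.card (s.sub X) = Nat.card X * Nat.card k := by
  rw [s.card_eq (s.sub_le_T X), show s.pJ (s.sub X) = ⊥ from eq_bot_iff.2 fun a ⟨_, _, h⟩ => (s.el_mem_sub.1 h).1,
    show s.pV (s.sub X) = X from AddSubgroup.ext fun x =>
      ⟨fun ⟨_, h⟩ => (s.el_mem_sub.1 h).2, fun h => ⟨0, s.el_mem_sub.2 ⟨rfl, h⟩⟩⟩,
    show s.pZ (s.sub X) = ⊤ from eq_top_iff.2 fun w _ => s.el_mem_sub.2 ⟨rfl, zero_mem _⟩]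
  simp

theorem card_Z : Nat.card s.Z = Nat.card k := by rw [Z, card_sub]; simp

theorem card_W : Nat.card s.W = Nat.card k ^ 2 := by rw [W, card_sub, card_LW, pow_two]

theorem card_A1 : Nat.card s.A1 = Nat.card k ^ 2 * Nat.card J := by rw [A1, card_sub, card_LA]; ring

theorem card_Q0 : Nat.card s.Q0 = Nat.card k ^ 2 * Nat.card J ^ 2 := by rw [Q0, card_sub, card_L0]; ring

theorem card_Q : Nat.card s.Q = Nat.card k ^ 3 * Nat.card J ^ 2 := by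
  rw [Q, card_sub, AddSubgroup.card_top]
  simp only [Nat.card_prod]; ring

theorem card_R : Nat.card s.R = Nat.card k ^ 2 * Nat.card J ^ 3 := by
  rw [s.card_eq s.R_le, show s.pJ s.R = ⊤ from eq_top_iff.2 fun a _ => ⟨0, 0, s.el_mem_R.2 rfl⟩,
    show s.pV s.R = L0 k J from AddSubgroup.ext fun x => ⟨fun ⟨_, h⟩ => s.el_mem_R.1 h, fun h => ⟨0, s.el_mem_R.2 h⟩⟩,
    show s.pZ s.R = ⊤ from eq_top_iff.2 fun w _ => s.el_mem_R.2 rfl, card_L0]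
  simp only [AddSubgroup.card_top]; ring

theorem card_T : Nat.card s.T = Nat.card k ^ 3 * Nat.card J ^ 3 := by
  rw [s.card_eq le_rfl, show s.pJ s.T = ⊤ from eq_top_iff.2 fun a _ => ⟨0, 0, s.el_mem ..⟩,
    show s.pV s.T = ⊤ from eq_top_iff.2 fun a _ => ⟨0, s.el_mem ..⟩,
    show s.pZ s.T = ⊤ from eq_top_iff.2 fun w _ => s.el_mem ..]
  simp only [AddSubgroup.card_top, Nat.card_prod]; ring

end St

end Cfsg.Agent.HxS
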