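import Mathlib
import Cfsg.Agent.HxS.Defs

/-! The structure of the Sylow subgroup; weak closure of `Q` and `R`. -/

set_option autoImplicit false
set_option linter.unusedSectionVars false

namespace Cfsg.Agent.HxS

open Cfsg.Agent.Hex Cfsg.Agent.Inv.Fz Subgroup

universe u

variable {G : Type u} [Group G] {k J : Type} [Field k] [AddCommGroup J] [Module k J] [CharP k 2]

theorem conj_mem {H : Subgroup G} {g x : G} (h : g ∈ normalizer (H : Set G)) (hx : x ∈ H) : g * x * g⁻¹ ∈ H :=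
  (mem_normalizer_iff.1 h x).1 hx

theorem mem_c1 {g x : G} : g ∈ centralizer ({x} : Set G) ↔ g * x = x * g := mem_centralizer_singleton_iff

theorem card_le_k [Finite k] (X : AddSubgroup k) : Nat.card X ≤ Nat.card k := X.card_le_card_addGroup

theorem card_le_J [Finite J] (X : AddSubgroup J) : Nat.card X ≤ Nat.card J := X.card_le_card_addGroup

namespace St

variable (s : St G k J)

/-- elements of `Q ∖ Z` are conjugate to all their multiples by `Z` -/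
theorem Q_orb {x z : G} (hx : x ∈ s.Q) (h : x ∉ s.Z) (hz : z ∈ s.Z) : ∃ t ∈ s.Q, t * x * t⁻¹ = x * z := by
  obtain ⟨x, w, rfl⟩ := s.mem_Q.1 hx
  obtain ⟨v, rfl⟩ := s.mem_Z.1 hz
  obtain ⟨y, hy⟩ := exists_bf s.S (fun e => h (s.el_mem_Z.2 ⟨rfl, e⟩)) v
  exact ⟨_, s.el_mem_Q.2 rfl, by rw [s.conjQ 0 y 0, sg_zero, ga_zero, add_zero, hy, mul_z]⟩

theorem fixW {t w : G} (ht : t ∈ s.T) (h : t ∉ s.R) (hw : w ∈ s.W) (e : t * w = w * t) : w ∈ s.Z := by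
  obtain ⟨a, x, v, rfl⟩ := s.mem_T.1 ht
  obtain ⟨t, w, rfl⟩ := s.mem_W.1 hw
  have h1 := (s.commQ.1 e).2
  rw [map_smul, LinearMap.smul_apply, bf_symm, bf_e0, smul_e0] at h1
  have h2 : t = 0 := by simpa [ga_mk, s.S.fd_sh_zero, s.el_mem_R.not.1 h] using h1
  simp [h2, el_mem_Z]

theorem e_mem_W (w : k) : s.el 0 e0 w ∈ s.W := s.mem_W.2 ⟨1, w, by rw [one_smul]⟩

theorem e_notMem (w : k) : s.el 0 e0 w ∉ s.Z := fun h => e0_ne (s.el_mem_Z.1 h).2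

theorem cenW {t : G} (ht : t ∈ s.T) (h : ∀ w ∈ s.W, t * w = w * t) : t ∈ s.R :=
  by_contra fun e => s.e_notMem 0 (s.fixW ht e (s.e_mem_W 0) (h _ (s.e_mem_W 0)))

theorem cenQ {t : G} (ht : t ∈ s.T) (h : ∀ y ∈ s.Q, t * y = y * t) : t ∈ s.Z := by
  obtain ⟨a, x, v, rfl⟩ := s.mem_T.1 ht
  have h1 := fun y => s.commQ.1 (h _ ((s.el_mem_Q (x := y) (w := 0)).2 rfl))
  have h2 : a = 0 := by_contra fun e => one_ne_zero ((fix_iff s.S e).1 (h1 (1, 0, 0, 0)).1).1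
  refine s.el_mem_Z.2 ⟨h2, bf_nondeg s.S fun y => ?_⟩
  rw [bf_symm, ← (h1 y).2, h2, ga_zero]

variable [Finite G] [Finite k] [Finite J]

theorem norm_sub {X : AddSubgroup (V k J)} (h : ∀ a, ∀ x ∈ X, sg s.S a x ∈ X) :
    s.T ≤ normalizer (s.sub X : Set G) := fun t ht => mem_normalizer_of_conj_mem (by
  obtain ⟨a, y, v, rfl⟩ := s.mem_T.1 ht
  rintro _ ⟨x, hx, w, rfl⟩
  rw [conjQ]
  exact s.el_mem_sub.2 ⟨rfl, h a x hx⟩)

theorem norm_Q : s.T ≤ normalizer (s.Q : Set G) := s.norm_sub fun _ _ _ => trivial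

theorem norm_Z : s.T ≤ normalizer (s.Z : Set G) := s.T_le_CZ.trans (centralizer_le_normalizer _)

theorem norm_W : s.T ≤ normalizer (s.W : Set G) := s.norm_sub fun a x hx => by
  obtain ⟨t, rfl⟩ := mem_LW'.1 hx
  rwa [map_smul, sg_e0]

theorem norm_Q0 : s.T ≤ normalizer (s.Q0 : Set G) := s.norm_sub fun _ _ h => h

theorem norm_A1 : s.T ≤ normalizer (s.A1 : Set G) := s.norm_sub fun a ⟨u, b, c, v⟩ h => by
  obtain ⟨rfl, rfl⟩ : u = 0 ∧ b = 0 := h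
  simp [sg_mk, mem_LA]

theorem norm_R : s.T ≤ normalizer (s.R : Set G) := fun t ht => mem_normalizer_of_conj_mem fun r hr =>
  s.cenW (mul_mem (mul_mem ht (s.R_le hr)) (inv_mem ht)) fun w hw => by
    have := s.W_comm (conj_mem (s.norm_W (inv_mem ht)) hw) hr
    calc _ = t * (r * (t⁻¹ * w * t⁻¹⁻¹)) * t⁻¹ := by group
      _ = _ := by rw [this]; group

theorem T_le_K : s.T ≤ s.K := le_inf s.norm_Q s.T_le_CZ

/-- `Q` normalises every subgroup between `Z` and `Q` -/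
theorem Q_norm {X : Subgroup G} (h1 : s.Z ≤ X) (h2 : X ≤ s.Q) : s.Q ≤ normalizer (X : Set G) :=
  fun t ht => mem_normalizer_of_conj_mem fun x hx => by simpa using mul_mem (h1 (s.Q_cmt ht (h2 hx))) hx

theorem card_le {X : Subgroup G} (h : X ≤ s.T) : Nat.card X ≤ Nat.card J * (Nat.card (s.pV X) * Nat.card k) :=
  s.card_eq h ▸ Nat.mul_le_mul (card_le_J _) (Nat.mul_le_mul_left _ (card_le_k _))

include s in
theorem two_le_J : 2 ≤ Nat.card J := two_le_k.trans (k_le_J s.S)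

theorem pJ_top {X : Subgroup G} (h : X ≤ s.T) {m : ℕ} (h1 : Nat.card (s.pV X) ≤ m)
    (h2 : Nat.card J * (m * Nat.card k) ≤ Nat.card X) : s.pJ X = ⊤ := by
  refine AddSubgroup.eq_top_of_le_card _ (Nat.le_of_mul_le_mul_right (h2.trans (s.card_eq h ▸
    Nat.mul_le_mul_left _ (Nat.mul_le_mul h1 (card_le_k _)))) ?_)
  exact Nat.mul_pos (Nat.card_pos.trans_le h1) Nat.card_pos

theorem fix_of_top {X : Subgroup G} (h : s.pJ X = ⊤) {x : V k J} (h1 : ∀ a y v, s.el a y v ∈ X → sg s.S a x = x) :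
    x ∈ LW k J := mem_LW'.2 (fix_all s.S s.dim fun a => by
  obtain ⟨y, v, e⟩ := h.ge (AddSubgroup.mem_top a)
  exact h1 a y v e)

/-- elements with a large centraliser lie in `W` -/
theorem cls {X : Subgroup G} (h : X ≤ s.T) {t : G} (ht : t ∈ s.T) (hc : ∀ x ∈ X, x * t = t * x)
    (h1 : Nat.card k ^ 2 * Nat.card J ^ 3 ≤ Nat.card X) : t ∈ s.W := by
  obtain ⟨a, x, v, rfl⟩ := s.mem_T.1 ht
  have hq := two_le_k (k := k)
  have hn := s.two_le_J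
  have h2 : a = 0 := by
    by_contra e
    have h3 : Nat.card (s.pV X) ≤ Nat.card k * Nat.card J := card_Fx s.S e ▸ AddSubgroup.card_le_of_le
      fun y ⟨w, hy⟩ => (s.commQ.1 (hc _ hy).symm).1
    have h4 := h1.trans ((s.card_le h).trans (Nat.mul_le_mul_left _ (Nat.mul_le_mul_right _ h3)))
    generalize Nat.card k = q, Nat.card J = n at h4 hq hn
    have : q ^ 2 * n ^ 2 * n ≤ q ^ 2 * n ^ 2 * 1 := by linarith
    have := Nat.le_of_mul_le_mul_left this (by positivity)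
    omega
  subst h2
  by_cases hx : x = 0
  · exact s.Z_le_W (s.el_mem_Z.2 ⟨rfl, hx⟩)
  refine s.el_mem_W.2 ⟨rfl, s.fix_of_top (s.pJ_top h (m := Nat.card k * Nat.card J ^ 2) ?_ (by linarith))
    fun a y v e => (s.commQ.1 (hc _ e)).1⟩
  have h3 := iso s.S (X := (LinearMap.toSpanSingleton k _ x).toAddMonoidHom.range) (Y := s.pV X) bot_ne_top (by
    rintro _ ⟨t, rfl⟩ y ⟨w, hy⟩
    simp [s.commQQ.1 (hc _ hy)])
  rw [← Nat.card_congr (AddMonoidHom.ofInjective (smul_left_injective k hx)).toEquiv] at h3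
  exact Nat.le_of_mul_le_mul_left (h3.trans_eq (by ring)) (by omega)

theorem cenR {t : G} (ht : t ∈ s.T) (h : ∀ r ∈ s.R, r * t = t * r) : t ∈ s.W := s.cls s.R_le ht h s.card_R.ge

theorem cenZ2 {t : G} (ht : t ∈ s.T) (h : ∀ y ∈ s.T, y * t * y⁻¹ * t⁻¹ ∈ s.Z) : t ∈ s.W := by
  obtain ⟨a, x, v, rfl⟩ := s.mem_T.1 ht
  have h2 : a = 0 := by
    by_contra e
    obtain ⟨w, h1⟩ := s.cmt a x v (1, 0, 0, 0) 0
    have := inv_mem (h _ (s.el_mem 0 (1, 0, 0, 0) 0))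
    rw [mul_inv_rev, mul_inv_rev, mul_inv_rev, inv_inv, inv_inv, ← mul_assoc, ← mul_assoc, h1, el_mem_Z] at this
    exact one_ne_zero ((fix_iff s.S e).1 (v_add_eq.1 this.2)).1
  subst h2
  refine s.el_mem_W.2 ⟨rfl, mem_LW'.2 (fix_all s.S s.dim fun a => ?_)⟩
  obtain ⟨w, h1⟩ := s.cmt a 0 0 x v
  exact v_add_eq.1 (s.el_mem_Z.1 (h1 ▸ h _ (s.el_mem a 0 0))).2

theorem normR_le : normalizer (s.R : Set G) ≤ normalizer (s.W : Set G) := fun g hg =>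
  mem_normalizer_of_conj_mem fun w hw => s.cenR (s.R_le (conj_mem hg (s.W_le_R hw))) fun r hr => by
    have := s.W_comm hw (conj_mem (inv_mem hg) hr)
    calc _ = g * (g⁻¹ * r * g⁻¹⁻¹ * w) * g⁻¹ := by group
      _ = _ := by rw [this]; group

theorem normQ_le : normalizer (s.Q : Set G) ≤ normalizer (s.Z : Set G) := fun g hg =>
  mem_normalizer_of_conj_mem fun w hw => s.cenQ (s.Q_le (conj_mem hg (s.Z_le_Q hw))) fun r hr => by
    have := s.Z_comm hw (s.Q_le (conj_mem (inv_mem hg) hr))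
    calc _ = g * (w * (g⁻¹ * r * g⁻¹⁻¹)) * g⁻¹ := by group
      _ = _ := by rw [← this]; group

/-- `R` is weakly closed -/
theorem wcR {g : G} (h : cj g s.R ≤ s.T) : cj g s.R = s.R := by
  have h1 : cj g s.W = s.W := cj_eq_of_le fun w hw => s.cls h (h (cj_mono s.W_le_R hw))
    (fun x hx => (s.conj g).W_comm (s.conj_W g ▸ hw) (s.conj_R g ▸ hx)) (by rw [card_cj, card_R])
  exact cj_eq_of_le fun r hr => s.cenW (h hr) fun w hw =>
    (s.conj g).W_comm (by rwa [conj_W, h1]) (s.conj_R g ▸ hr)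

/-- `Q` is weakly closed -/
theorem wcQ {g : G} (h : cj g s.Q ≤ s.T) : cj g s.Q = s.Q := by
  refine cj_eq_of_le fun t ht => by_contra fun hQ => ?_
  obtain ⟨a, y, v, rfl⟩ := s.mem_T.1 (h ht)
  have ha := s.el_mem_Q.not.1 hQ
  have hq := two_le_k (k := k)
  have hn := s.two_le_J
  have hZ : cj g s.Z ≤ s.T := (cj_mono s.Z_le_Q).trans h
  have hc : ∀ {x y}, x ∈ cj g s.Q → y ∈ cj g s.Q → x * y * x⁻¹ * y⁻¹ ∈ cj g s.Z := fun hx hy =>
    s.conj_Z g ▸ (s.conj g).Q_cmt (s.conj_Q g ▸ hx) (s.conj_Q g ▸ hy)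
  have h1 := s.card_le h
  have h2 := card_le_mul ((sg s.S a).toAddMonoidHom + AddMonoidHom.id _) (X := s.pV (cj g s.Q))
    (Y := s.pV (cj g s.Z)) (K := Fx s.S a) (fun x ⟨w, hx⟩ => (s.cmt a y v x w).imp fun _ e => e ▸ hc ht hx)
    fun x _ e => v_add_eq.1 e
  have h3 := s.card_eq hZ
  rw [card_cj, card_Q] at h1
  rw [card_cj, card_Z] at h3
  rw [card_Fx s.S ha] at h2
  have h4 := iso s.S (X := s.pV (cj g s.Q)) (Y := s.pV (cj g s.Q)) (Z := s.pZ (cj g s.Z)) (fun e => by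
    rw [e, AddSubgroup.card_top] at h3
    have : 0 < Nat.card (s.pJ (cj g s.Z)) := Nat.card_pos
    generalize Nat.card k = q, Nat.card J = n, Nat.card (s.pV (cj g s.Q)) = m, Nat.card (s.pV (cj g s.Z)) = m',
      Nat.card (s.pJ (cj g s.Z)) = m'' at *
    have h5 : m'' * m' = 1 := Nat.eq_of_mul_eq_mul_right (by omega) (by linarith : m'' * m' * q = 1 * q)
    rw [Nat.eq_one_of_mul_eq_one_left h5, one_mul] at h2
    have : q ^ 2 * n ^ 2 * q ≤ q ^ 2 * n ^ 2 * 1 := by nlinarith [Nat.mul_le_mul_left (n * q) h2]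
    have := Nat.le_of_mul_le_mul_left this (by positivity)
    omega) fun x ⟨w, hx⟩ y ⟨w', hy⟩ => s.mem_pZ.2 (s.cmtQ y w' x w ▸ hc hy hx)
  generalize Nat.card k = q, Nat.card J = n, Nat.card (s.pV (cj g s.Q)) = m at *
  have h5 : m ≤ q * n := by nlinarith
  have : q ^ 2 * n ^ 2 * q ≤ q ^ 2 * n ^ 2 * 1 := by nlinarith [Nat.mul_le_mul_left (n * q) h5]
  have := Nat.le_of_mul_le_mul_left this (by positivity)
  omega

/-- large subgroups that are abelian modulo `Z` lie in `Q` -/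
theorem le_Q {Y : Subgroup G} (h : Y ≤ s.T) (hc : ∀ x ∈ Y, ∀ y ∈ Y, x * y * x⁻¹ * y⁻¹ ∈ s.Z)
    (h1 : Nat.card k ^ 2 * Nat.card J ^ 2 ≤ Nat.card Y) : Y ≤ s.Q := by
  intro t ht
  obtain ⟨a, y, v, rfl⟩ := s.mem_T.1 (h ht)
  refine s.el_mem_Q.2 (by_contra fun ha => ?_)
  have h2 : ∀ a y v, s.el a y v ∈ Y → ∀ x ∈ s.pV Y, sg s.S a x = x := fun a y v e x ⟨w, hx⟩ =>
    (s.cmt a y v x w).elim fun _ e' => v_add_eq.1 (s.el_mem_Z.1 (e' ▸ hc _ e _ hx)).2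
  have h3 := s.pJ_top h (m := Nat.card k * Nat.card J) (card_Fx s.S ha ▸ AddSubgroup.card_le_of_le (h2 a y v ht))
    (by linarith)
  have h4 : Nat.card (s.pV Y) ≤ Nat.card k := card_LW (k := k) (J := J) ▸ AddSubgroup.card_le_of_le fun x hx =>
    s.fix_of_top h3 fun a y v e => h2 a y v e x hx
  have h5 := h1.trans ((s.card_le h).trans (Nat.mul_le_mul_left _ (Nat.mul_le_mul_right _ h4)))
  have hq := two_le_k (k := k)
  have hn := s.two_le_J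
  generalize Nat.card k = q, Nat.card J = n at *
  have : q ^ 2 * n * n ≤ q ^ 2 * n * 1 := by linarith
  have := Nat.le_of_mul_le_mul_left this (by positivity)
  omega

theorem norm_Q0' {g : G} (h : g ∈ normalizer (s.R : Set G)) (h' : g ∈ normalizer (s.Z : Set G)) :
    cj g s.Q0 = s.Q0 := by
  have h1 : cj g s.Q0 ≤ s.R := (cj_mono s.Q0_le_R).trans (cj_eq_iff.2 h).le
  refine cj_eq_of_le fun x hx => s.mem_Q0.2 ⟨s.le_Q (h1.trans s.R_le) (fun x hx y hy => ?_)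
    (by rw [card_cj, card_Q0]) hx, h1 hx⟩
  rw [← cj_eq_iff.2 h', ← conj_Z]
  exact (s.conj g).Q_cmt (s.conj_Q g ▸ cj_mono s.Q0_le_Q hx) (s.conj_Q g ▸ cj_mono s.Q0_le_Q hy)

/-- all involutions of a coset of `Q` are conjugate -/
theorem inv_conj {a : J} (ha : a ≠ 0) {x : V k J} {w : k} (h : s.el a x w * s.el a x w = 1) :
    ∃ y ∈ s.Q, y * s.el a x w * y⁻¹ = s.el a 0 0 := by
  rw [sq_el, el_eq_one] at h
  obtain ⟨y, rfl⟩ := exists_of_fix s.S ha (v_add_eq.1 h.2.1)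
  obtain ⟨w', e⟩ : ∃ w', s.el 0 y 0 * s.el a (sg s.S a y + y) w * (s.el 0 y 0)⁻¹ = s.el a 0 w' := by
    rw [s.mul, invQ, mulQ, zero_add, ← add_assoc, vtwo, zero_add, vtwo]
    exact ⟨_, rfl⟩
  obtain ⟨z, h1, h2⟩ := exists_ga s.S ha w'
  refine ⟨s.el 0 z 0 * s.el 0 y 0, mul_mem (s.el_mem_Q.2 rfl) (s.el_mem_Q.2 rfl), ?_⟩
  rw [mul_inv_rev, mul_assoc, mul_assoc, ← mul_assoc _ _ (s.el 0 z 0)⁻¹, ← mul_assoc (s.el 0 y 0),
    ← mul_assoc (s.el 0 y 0), e, ← mul_assoc, s.mul, invQ, mulQ, h1, h2]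
  simp [vtwo, qf, CharTwo.add_self_eq_zero]

/-- the centraliser of `x₁(a)` -/
theorem comm_x1 {a : J} (ha : a ≠ 0) {a' x w} : s.el a' x w * s.el a 0 0 = s.el a 0 0 * s.el a' x w ↔
    x.1 = 0 ∧ x.2.1 = 0 ∧ s.S.T a x.2.2.1 = 0 := by
  obtain ⟨u, b, c, v⟩ := x
  rw [x1_mul, s.mul, add_comm a, el_inj, add_zero, map_zero, add_zero, add_zero, add_eq_left, and_iff_right rfl,
    fix_iff s.S ha]
  constructor
  · rintro ⟨⟨rfl, h1, h2⟩, h3⟩
    obtain ⟨t, rfl⟩ := cr_eq_zero s.S ha h1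
    have : t = 0 := by simpa [ga_mk, s.S.sh_smul, ← s.S.N_eq, N_ne s.S ha] using h3
    simpa [this] using h2
  · rintro ⟨rfl, rfl, h⟩
    simpa [ga_mk, s.S.fd_sh_zero] using h

theorem card_CQ {d : G} (hd : d ∈ s.Q) :
    Nat.card k ^ 2 * Nat.card J ^ 2 ≤ Nat.card (s.Q ⊓ centralizer {d} : Subgroup G) := by
  obtain ⟨x, w, rfl⟩ := s.mem_Q.1 hd
  have h1 := card_le_mul (bf s.S x).toAddMonoidHom (X := ⊤) (Y := ⊤)
    (K := s.pV (s.Q ⊓ centralizer {s.el 0 x w})) (fun _ _ => trivial) fun y _ e =>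
      ⟨0, s.el_mem_Q.2 rfl, mem_c1.2 (s.commQQ.2 e)⟩
  rw [s.card_eq (inf_le_left.trans s.Q_le), show s.pZ (s.Q ⊓ centralizer {s.el 0 x w}) = ⊤ from eq_top_iff.2
    fun v _ => ⟨s.el_mem_Q.2 rfl, mem_c1.2 (s.commQQ.2 (map_zero _))⟩]
  simp only [AddSubgroup.card_top, card_V] at h1 ⊢
  have : 0 < Nat.card (s.pJ (s.Q ⊓ centralizer {s.el 0 x w})) := Nat.card_pos
  nlinarith

theorem Z_cmt {d z : G} (hd : d ∈ s.Q) (hz : z ∈ s.Z) : ∃ x ∈ s.Q ⊓ centralizer {d}, ∃ y ∈ s.Q ⊓ centralizer {d},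
    x * y * x⁻¹ * y⁻¹ = z := by
  have h1 := s.card_CQ hd
  obtain ⟨x, w, rfl⟩ := s.mem_Q.1 hd
  obtain ⟨v, rfl⟩ := s.mem_Z.1 hz
  have m : ∀ {y w'}, s.el 0 y w' ∈ s.Q ⊓ centralizer {s.el 0 x w} ↔ bf s.S x y = 0 :=
    mem_inf.trans ((and_iff_right (s.el_mem_Q.2 rfl)).trans (mem_c1.trans s.commQQ))
  obtain ⟨y, hy, y', hy', e⟩ : ∃ y, bf s.S x y = 0 ∧ ∃ y', bf s.S x y' = 0 ∧ bf s.S y y' ≠ 0 := by
    by_contra! h
    have h2 := iso s.S (X := s.pV (s.Q ⊓ centralizer {s.el 0 x w})) (Y := s.pV (s.Q ⊓ centralizer {s.el 0 x w}))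
      bot_ne_top fun y ⟨_, hy⟩ y' ⟨_, hy'⟩ => h y (m.1 hy) y' (m.1 hy')
    rw [s.card_eq (inf_le_left.trans s.Q_le), show s.pJ (s.Q ⊓ centralizer {s.el 0 x w}) = ⊥ from eq_bot_iff.2
      fun a ⟨_, _, h⟩ => s.el_mem_Q.1 h.1, AddSubgroup.card_bot, one_mul] at h1
    have h3 := h1.trans (Nat.mul_le_mul_left _ (card_le_k _))
    have hq := two_le_k (k := k)
    have hn := s.two_le_J
    generalize Nat.card k = q, Nat.card J = n, Nat.card (s.pV (s.Q ⊓ centralizer {s.el 0 x w})) = m at *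
    have h5 : m ≤ q * n := by nlinarith
    have : q ^ 2 * n * n ≤ q ^ 2 * n * 1 := by nlinarith [Nat.mul_le_mul_right q h5]
    have := Nat.le_of_mul_le_mul_left this (by positivity)
    omega
  refine ⟨s.el 0 ((v / bf s.S y y') • y') 0, m.2 (by rw [map_smul, hy', smul_zero]), s.el 0 y 0, m.2 hy, ?_⟩
  rw [cmtQ, map_smul, smul_eq_mul, div_mul_cancel₀ _ e]

/-- a 2-subgroup centralising `d ∈ D` lies in a frame with `d` central -/
theorem pull {d : G} (hd : d ∈ s.D) {P : Subgroup G} (hP : IsPGroup 2 P) (h : P ≤ centralizer {d}) :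
    ∃ g, d ∈ (s.conj g).Z ∧ P ≤ (s.conj g).T := by
  obtain ⟨z, hz, -, h1⟩ := hd
  obtain ⟨g, rfl⟩ := isConj_iff.1 h1
  have h2 : g * z * g⁻¹ ∈ (s.conj g).Z := s.conj_Z g ▸ conj_mem_cj.2 hz
  obtain ⟨c, hc, h3⟩ := ((s.conj g).sylIn fun t ht => mem_c1.2 ((s.conj g).Z_comm h2 ht)).exists_cj_le hP h
  refine ⟨c⁻¹ * g, ?_, ?_⟩
  · rw [conj_Z, ← cj_cj, mem_cj, inv_inv, mem_c1.1 hc, mul_inv_cancel_right]
    exact conj_mem_cj.2 hz
  · rw [conj_T, ← cj_cj, ← cj_le_cj (g := c), cj_cj_inv]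
    exact h3

/-- a conjugate of `Q` inside an overgroup of `T` -/
theorem pullQ {H : Subgroup G} (h : s.T ≤ H) {g : G} (hg : cj g s.Q ≤ H) :
    ∃ c ∈ H, c * g ∈ normalizer (s.Q : Set G) := by
  obtain ⟨c, hc, h1⟩ := (s.sylIn h).exists_cj_le (isPGroup_cj (s.pg.to_le s.Q_le) g) hg
  exact ⟨c, hc, cj_eq_iff.1 (s.wcQ (by rwa [← cj_cj]))⟩

/-- a conjugate of `R` inside an overgroup of `R` -/
theorem pullR {H : Subgroup G} (h : s.R ≤ H) {g : G} (hg : cj g s.R ≤ H) :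
    ∃ c ∈ H, c * g ∈ normalizer (s.R : Set G) := by
  obtain ⟨P, hP, h1⟩ := exists_isSylIn (s.pg.to_le s.R_le) h
  obtain ⟨c, hc, h2⟩ := hP.exists_cj_le (isPGroup_cj (s.pg.to_le s.R_le) g) hg
  obtain ⟨x, -, h3⟩ := s.syl.exists_cj_le hP.isPGroup le_top
  have h4 := s.wcR (g := x * (c * g)) (by rw [← cj_cj, ← cj_cj]; exact (cj_mono h2).trans h3)
  exact ⟨c, hc, cj_eq_iff.1 (cj_inj.1 (by rw [cj_cj, h4, s.wcR ((cj_mono h1).trans h3)]))⟩

end St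

end Cfsg.Agent.HxS
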