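import Mathlib
import Cfsg.Agent.HxS.Base

/-! The linear action of `K = N(Q) ∩ C(Z)` on `V = Q / Z`. -/

set_option autoImplicit false
set_option linter.unusedSectionVars false

namespace Cfsg.Agent.HxS

open Cfsg.Agent.Hex Cfsg.Agent.Inv.Fz Subgroup

universe u

variable {G : Type u} [Group G] {k J : Type} [Field k] [AddCommGroup J] [Module k J] [CharP k 2]

namespace St

variable (s : St G k J)

/-- the action on `V` as a function -/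
noncomputable def rf (g : G) (x : V k J) : V k J := (s.co (g * s.el 0 x 0 * g⁻¹)).2.1

theorem K_z {g : G} (hg : g ∈ s.K) (w : k) : g * s.el 0 0 w * g⁻¹ = s.el 0 0 w :=
  mul_inv_eq_iff_eq_mul.2 (hg.2 _ (s.el_mem_Z.2 ⟨rfl, rfl⟩)).symm

theorem rf_spec {g : G} (hg : g ∈ s.K) (x : V k J) (w : k) : ∃ w', g * s.el 0 x w * g⁻¹ = s.el 0 (s.rf g x) w' := by
  obtain ⟨y, v, e⟩ := s.mem_Q.1 (conj_mem hg.1 ((s.el_mem_Q (x := x) (w := 0)).2 rfl))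
  refine ⟨v + w, ?_⟩
  rw [rf, e, co_el, ← mul_z, ← e, ← s.K_z hg w, conj_mul, mul_z, zero_add]

theorem rf_eq {g : G} (hg : g ∈ s.K) {x y : V k J} {w w' : k} (h : g * s.el 0 x w * g⁻¹ = s.el 0 y w') :
    s.rf g x = y := (s.rf_spec hg x w).elim fun _ e => (s.inj (e.symm.trans h)).2.1

theorem rf_add {g : G} (hg : g ∈ s.K) (x y : V k J) : s.rf g (x + y) = s.rf g x + s.rf g y := by
  obtain ⟨_, e⟩ := s.rf_spec hg x 0
  obtain ⟨_, e'⟩ := s.rf_spec hg y 0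
  exact s.rf_eq hg (by rw [← mulQ, ← conj_mul, e, e', mulQ])

theorem qf_rf {g : G} (hg : g ∈ s.K) (x : V k J) : qf s.S (s.rf g x) = qf s.S x := by
  obtain ⟨w, e⟩ := s.rf_spec hg x 0
  have := s.sqQ (s.rf g x) w
  rw [← e, conj_mul, sqQ, s.K_z hg] at this
  exact (s.inj this).2.2.symm

theorem bf_rf {g : G} (hg : g ∈ s.K) (x y : V k J) : bf s.S (s.rf g x) (s.rf g y) = bf s.S x y := by
  have h := s.qf_rf hg (x + y)
  rw [s.rf_add hg, qf_add, qf_add, s.qf_rf hg, s.qf_rf hg] at h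
  exact add_left_cancel h

theorem rf_mul {g h : G} (hg : g ∈ s.K) (hh : h ∈ s.K) (x : V k J) : s.rf (g * h) x = s.rf g (s.rf h x) := by
  obtain ⟨w, e⟩ := s.rf_spec hh x 0
  obtain ⟨_, e'⟩ := s.rf_spec hg (s.rf h x) w
  exact s.rf_eq (mul_mem hg hh) (w := 0) (by rw [← e', ← e]; group)

theorem rf_one (x : V k J) : s.rf 1 x = x := s.rf_eq (one_mem _) (w := 0) (w' := 0) (by group)

theorem rf_smul {g : G} (hg : g ∈ s.K) (t : k) (x : V k J) : s.rf g (t • x) = t • s.rf g x :=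
  v_add_eq.1 (bf_nondeg s.S fun y => by
    have e : y = s.rf g (s.rf g⁻¹ y) := by rw [← s.rf_mul hg (inv_mem hg), mul_inv_cancel, rf_one]
    rw [e, map_add, map_smul, LinearMap.add_apply, LinearMap.smul_apply, s.bf_rf hg, s.bf_rf hg, map_smul,
      LinearMap.smul_apply, CharTwo.add_self_eq_zero])

open Classical in
/-- the action of `K` on `V` (the identity outside `K`) -/
noncomputable def ρ (g : G) : Module.End k (V k J) :=
  if h : g ∈ s.K then ⟨⟨s.rf g, s.rf_add h⟩, s.rf_smul h⟩ else 1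

theorem ρ_rf {g : G} (hg : g ∈ s.K) (x : V k J) : s.ρ g x = s.rf g x := by rw [ρ, dif_pos hg]; rfl

theorem ρ_spec {g : G} (hg : g ∈ s.K) (x : V k J) (w : k) : ∃ w', g * s.el 0 x w * g⁻¹ = s.el 0 (s.ρ g x) w' :=
  s.ρ_rf hg x ▸ s.rf_spec hg x w

theorem ρ_eq {g : G} (hg : g ∈ s.K) {x y : V k J} {w w' : k} (h : g * s.el 0 x w * g⁻¹ = s.el 0 y w') :
    s.ρ g x = y := s.ρ_rf hg x ▸ s.rf_eq hg h

theorem qf_ρ {g : G} (hg : g ∈ s.K) (x : V k J) : qf s.S (s.ρ g x) = qf s.S x := s.ρ_rf hg x ▸ s.qf_rf hg x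

theorem bf_ρ {g : G} (hg : g ∈ s.K) (x y : V k J) : bf s.S (s.ρ g x) (s.ρ g y) = bf s.S x y := by
  rw [s.ρ_rf hg, s.ρ_rf hg, s.bf_rf hg]

theorem ρ_mul {g h : G} (hg : g ∈ s.K) (hh : h ∈ s.K) : s.ρ (g * h) = s.ρ g * s.ρ h := LinearMap.ext fun x => by
  rw [Module.End.mul_apply, s.ρ_rf hg, s.ρ_rf hh, s.ρ_rf (mul_mem hg hh), s.rf_mul hg hh]

theorem ρ_mul' {g h : G} (hg : g ∈ s.K) (hh : h ∈ s.K) (x : V k J) : s.ρ (g * h) x = s.ρ g (s.ρ h x) := by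
  rw [s.ρ_mul hg hh, Module.End.mul_apply]

theorem ρ_one : s.ρ 1 = 1 := LinearMap.ext fun x => (s.ρ_rf (one_mem _) x).trans (s.rf_one x)

theorem ρ_pow {g : G} (hg : g ∈ s.K) (n : ℕ) : s.ρ (g ^ n) = s.ρ g ^ n := by
  induction n with
  | zero => rw [pow_zero, pow_zero, ρ_one]
  | succ n h => rw [pow_succ, pow_succ, s.ρ_mul (pow_mem hg n) hg, h]

theorem ρ_inv {g : G} (hg : g ∈ s.K) (x : V k J) : s.ρ g⁻¹ (s.ρ g x) = x := by
  rw [← s.ρ_mul' (inv_mem hg) hg, inv_mul_cancel, ρ_one]; rfl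

theorem ρ_inv' {g : G} (hg : g ∈ s.K) (x : V k J) : s.ρ g (s.ρ g⁻¹ x) = x := by
  simpa using s.ρ_inv (inv_mem hg) x

theorem ρ_bij {g : G} (hg : g ∈ s.K) : Function.Bijective (s.ρ g) :=
  Function.bijective_iff_has_inverse.2 ⟨_, s.ρ_inv hg, s.ρ_inv' hg⟩

theorem ρ_ne {g : G} (hg : g ∈ s.K) {x : V k J} (h : x ≠ 0) : s.ρ g x ≠ 0 :=
  (map_ne_zero_iff _ (s.ρ_bij hg).1).2 h

variable [Finite G] [Finite k] [Finite J]

theorem ρ_el (a y v) : s.ρ (s.el a y v) = sg s.S a :=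
  LinearMap.ext fun x => s.ρ_eq (s.T_le_K (s.el_mem ..)) (s.conjQ a y v x 0)

theorem ρ_Q {g : G} (hg : g ∈ s.Q) : s.ρ g = 1 := by
  obtain ⟨x, w, rfl⟩ := s.mem_Q.1 hg
  exact (s.ρ_el ..).trans (LinearMap.ext (sg_zero s.S))

end St

end Cfsg.Agent.HxS
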